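import Groth.Agent.Lib.NormalBC6.TensorField
import Groth.Agent.Lib.PtInt5.Open
import Groth.Agent.Lib.SectionCompFlat4
import Groth.Agent.Lib.RedFlat4
import Groth.Agent.Lib.Stein6.NormalBase
import Groth.Prelude.Def_Pi1
import Mathlib.AlgebraicGeometry.Morphisms.SchemeTheoreticallyDominant

/-!
# Finite modifications of flat morphisms with geometrically reduced fibres over a normal base
-/

set_option autoImplicit false
set_option backward.isDefEq.respectTransparency false
set_option linter.style.haveILetI false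

universe u

open CategoryTheory CategoryTheory.Limits AlgebraicGeometry TensorProduct TopologicalSpace

namespace Groth.Agent.EtaMod4

/-- The tensor product square. -/
theorem isPullback_tensor (R0 B C : Type u) [CommRing R0] [CommRing B] [CommRing C] [Algebra R0 B] [Algebra R0 C] :
    IsPullback (Spec.map (CommRingCat.ofHom (Algebra.TensorProduct.includeLeftRingHom : B →+* B ⊗[R0] C)))
      (Spec.map (CommRingCat.ofHom (Algebra.TensorProduct.includeRight : C →ₐ[R0] B ⊗[R0] C).toRingHom))
      (Spec.map (CommRingCat.ofHom (algebraMap R0 B))) (Spec.map (CommRingCat.ofHom (algebraMap R0 C))) := by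
  refine (IsPullback.of_hasPullback _ _).of_iso (pullbackSpecIso R0 B C) (Iso.refl _) (Iso.refl _) (Iso.refl _)
    ?_ ?_ ?_ ?_ <;> simp [Iso.inv_comp_eq] <;> rfl

/-- The affine statement: an integral extension inside the generic fibre is trivial. -/
theorem bijective_core {R0 B0 R K A' : Type u} [CommRing R0] [IsNoetherianRing R0] [CommRing B0] [Algebra R0 B0]
    [Module.Flat R0 B0] (hB0 : ∀ (p : Ideal R0) [p.IsPrime], Algebra.IsGeometricallyReduced p.ResidueField (p.Fiber B0))
    [CommRing R] [IsDomain R] [IsIntegrallyClosed R] [Field K] [Algebra R0 R] [Algebra R0 K] [Algebra R K]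
    [IsScalarTower R0 R K] [IsFractionRing R K] [CommRing A'] (g : B0 ⊗[R0] R →+* A') (hg : g.Finite)
    (h : A' →+* B0 ⊗[R0] K) (hh : Function.Injective h)
    (hc : h.comp g = (Algebra.TensorProduct.map (AlgHom.id B0 B0) (IsScalarTower.toAlgHom R0 R K)).toRingHom) :
    Function.Bijective g := by
  let ι := Algebra.TensorProduct.map (AlgHom.id B0 B0) (IsScalarTower.toAlgHom R0 R K)
  have hι : Function.Injective ι :=
    Module.Flat.lTensor_preserves_injective_linearMap (M := B0) (IsScalarTower.toAlgHom R0 R K).toLinearMap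
      (IsFractionRing.injective R K)
  refine ⟨fun a b hab => hι ?_, fun a' => ?_⟩
  · show ι.toRingHom a = ι.toRingHom b
    rw [← hc, RingHom.comp_apply, RingHom.comp_apply, hab]
  · have hi : ι.toRingHom.IsIntegralElem (h a') := by
      rw [← hc]
      exact NormalBC6.isIntegralElem_map (RingHom.id _) h (by rfl) (hg.to_isIntegral a')
    obtain ⟨a, ha⟩ := NormalBC6.mem_range_of_integralElem (B := R) (C := K) hB0
      (fun c hc => by
        obtain ⟨y, hy⟩ := IsIntegrallyClosed.isIntegral_iff.1 hc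
        exact ⟨y, hy⟩) hi
    refine ⟨a, hh ?_⟩
    rw [← RingHom.comp_apply, hc]
    exact ha

/-- Fibrewise geometric reducedness of an affine morphism, in algebra. -/
theorem isGeometricallyReduced_fibers {R0 B0 : Type u} [CommRing R0] [CommRing B0] [Algebra R0 B0]
    (h : ∀ w : ↥(Spec (CommRingCat.of B0)),
      FBase.IsGeomReducedAt ((Spec.map (CommRingCat.ofHom (algebraMap R0 B0))).fiberToSpecResidueField
        ((Spec.map (CommRingCat.ofHom (algebraMap R0 B0))) w))
        ((Spec.map (CommRingCat.ofHom (algebraMap R0 B0))).asFiber w))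
    (p : Ideal R0) [p.IsPrime] : Algebra.IsGeometricallyReduced p.ResidueField (p.Fiber B0) := by
  rw [Algebra.isGeometricallyReduced_field_iff]
  let L := AlgebraicClosure p.ResidueField
  let f := Spec.map (CommRingCat.ofHom (algebraMap R0 B0))
  let t := Spec.map (CommRingCat.ofHom (algebraMap R0 L))
  haveI : IsReduced (pullback f t) :=
    @isReduced_of_isReduced_stalk _ fun w => PtInt5.isReduced_stalk_of_geomReduced f t w (h _)
  haveI : IsReduced (Spec (CommRingCat.of (B0 ⊗[R0] L))) :=
    isReduced_of_isOpenImmersion (pullbackSpecIso R0 B0 L).inv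
  haveI : _root_.IsReduced (B0 ⊗[R0] L) :=
    isReduced_of_injective (Scheme.ΓSpecIso (CommRingCat.of (B0 ⊗[R0] L))).inv.hom
      (Scheme.ΓSpecIso (CommRingCat.of (B0 ⊗[R0] L))).symm.commRingCatIsoToRingEquiv.injective
  haveI : _root_.IsReduced (L ⊗[R0] B0) :=
    isReduced_of_injective (Algebra.TensorProduct.comm R0 L B0) (AlgEquiv.injective _)
  exact isReduced_of_injective (Algebra.TensorProduct.cancelBaseChange R0 p.ResidueField L L B0)
    (AlgEquiv.injective _)

/-- A flat morphism of finite presentation to an affine scheme has a model over a Noetherian ring. -/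
theorem exists_flat_model {X : Scheme.{u}} {A : CommRingCat.{u}} (u : X ⟶ Spec A) [Flat u] [QuasiCompact u]
    [QuasiSeparated u] [LocallyOfFinitePresentation u] :
    ∃ (R0 : CommRingCat.{u}) (_ : IsNoetherianRing R0) (X₁ : Scheme.{u}) (π : Spec A ⟶ Spec R0)
      (u₁ : X₁ ⟶ Spec R0) (q : X ⟶ X₁),
      IsPullback q u u₁ π ∧ Flat u₁ ∧ LocallyOfFinitePresentation u₁ := by
  let c := ConsH13.approxCone A
  have hc : IsLimit c := ConsH13.isLimitApproxCone A
  haveI : CompactSpace X := QuasiCompact.compactSpace_of_compactSpace u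
  haveI : QuasiSeparatedSpace X := quasiSeparatedSpace_of_quasiSeparated u
  let u' : X ⟶ c.pt := u
  haveI : LocallyOfFinitePresentation u' := ‹LocallyOfFinitePresentation u›
  haveI : Flat u' := ‹Flat u›
  obtain ⟨i, X₀, u₀, qX, h1, h2, h3, h4⟩ := LimH13.hasModel_of_finitePresentation hc (X := X) u'
  haveI := h1; haveI := h2; haveI := h3
  haveI : QuasiCompact u₀ := QuasiCompact.of_comp u₀ (Scheme.toSpecΓ ((ConsH13.approxDiagram A).obj i))
  let D := ConsH13.approxDiagram A
  haveI : ∀ j k : _, ∀ a : j ⟶ k, IsAffineHom (D.map a) := fun j k a => inferInstance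
  let c₁ : Cone (Over.forget i ⋙ D) := c.whisker (Over.forget i)
  have hc₁ : IsLimit c₁ := (Functor.Initial.isLimitWhiskerEquiv (Over.forget i) c).symm hc
  haveI : ∀ k, IsAffineHom ((Descend.overT D i).app k) := fun k => inferInstanceAs (IsAffineHom (D.map k.hom))
  have hq₁ : ∀ k, c₁.π.app k ≫ (Descend.overT D i).app k = c.π.app i := fun k => c.w k.hom
  obtain ⟨k, hk⟩ := Descend19.exists_flat (f := u₀) (D := Over.forget i ⋙ D) (t := Descend.overT D i)
    (q := c.π.app i) hc₁ hq₁ (g := u') h4
  obtain ⟨q₁, sq₁⟩ := ZConn5.isPullback_stage h4 (D.map k.hom) (c.π.app k.left) (c.w k.hom)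
  refine ⟨(ConsH13.subFunctor A).obj k.left.unop, inferInstance, _, c.π.app k.left,
    pullback.snd u₀ (D.map k.hom), q₁, sq₁, hk, MorphismProperty.pullback_snd _ _ inferInstance⟩

/-- Around every point of the preimage of an affine open of the base, a chart defined over a
Noetherian ring with geometrically reduced fibres. -/
theorem exists_chart {R : CommRingCat.{u}} {X : Scheme.{u}} (φ : X ⟶ Spec R) [Flat φ] [QuasiCompact φ]
    [QuasiSeparated φ] [LocallyOfFinitePresentation φ]
    (hred : ∀ x : X, FBase.IsGeomReducedAt (φ.fiberToSpecResidueField (φ x)) (φ.asFiber x)) (x : X) :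
    ∃ (R0 B0 : Type u) (_ : CommRing R0) (_ : CommRing B0) (_ : Algebra R0 B0) (_ : Algebra R0 R)
      (j : Spec (CommRingCat.of (B0 ⊗[R0] R)) ⟶ X),
      IsNoetherianRing R0 ∧ Module.Flat R0 B0 ∧
        (∀ (p : Ideal R0) [p.IsPrime], Algebra.IsGeometricallyReduced p.ResidueField (p.Fiber B0)) ∧
        IsOpenImmersion j ∧ x ∈ Set.range j ∧
        j ≫ φ = Spec.map (CommRingCat.ofHom (Algebra.TensorProduct.includeRight : R →ₐ[R0] B0 ⊗[R0] R).toRingHom) := by
  obtain ⟨R0, hN, X₁, π, u₁, q, sq, hfl, hfp⟩ := exists_flat_model φ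
  haveI := hfl; haveI := hfp
  let U₁ : X₁.Opens := ⟨_, FibDepth5.isOpen_flat_geomReduced u₁⟩
  have hx : q x ∈ U₁ := ⟨Flat.stalkMap u₁ _, SectionCompFlat4.isGeomReducedAt_of_baseChange u₁ sq x (hred x)⟩
  obtain ⟨W, hW, hxW, hWU⟩ := exists_isAffineOpen_mem_and_subset (X := X₁) hx
  obtain ⟨a, ha⟩ := Spec.map_surjective π
  obtain ⟨b, hb⟩ := Spec.map_surjective (hW.fromSpec ≫ u₁)
  let B0 : CommRingCat.{u} := Γ(X₁, W)
  letI : Algebra R0 R := a.hom.toAlgebra
  letI : Algebra R0 B0 := b.hom.toAlgebra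
  have ha' : Spec.map (CommRingCat.ofHom (algebraMap R0 R)) = π := ha
  have hb' : Spec.map (CommRingCat.ofHom (algebraMap R0 B0)) = hW.fromSpec ≫ u₁ := hb
  have sqT := isPullback_tensor R0 B0 R
  rw [ha', hb'] at sqT
  let j := sq.lift (Spec.map (CommRingCat.ofHom (Algebra.TensorProduct.includeLeftRingHom : B0 →+* B0 ⊗[R0] R)) ≫ hW.fromSpec)
    (Spec.map (CommRingCat.ofHom (Algebra.TensorProduct.includeRight : R →ₐ[R0] B0 ⊗[R0] R).toRingHom))
    (by rw [Category.assoc]; exact sqT.w)
  have hj2 : j ≫ φ = _ := sq.lift_snd _ _ _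
  have sqj : IsPullback (Spec.map (CommRingCat.ofHom (Algebra.TensorProduct.includeLeftRingHom : B0 →+* B0 ⊗[R0] R)))
      j hW.fromSpec q := IsPullback.of_bot (by rw [hj2]; exact sqT) (sq.lift_fst _ _ _).symm sq
  haveI hj : IsOpenImmersion j := MorphismProperty.of_isPullback sqj (inferInstance : IsOpenImmersion hW.fromSpec)
  haveI : Flat (Spec.map (CommRingCat.ofHom (algebraMap R0 B0))) := by rw [hb']; infer_instance
  refine ⟨R0, B0, inferInstance, inferInstance, inferInstance, inferInstance, j, hN, ?_, fun p _ => ?_, hj, ?_, hj2⟩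
  · exact RingHom.flat_algebraMap_iff.1
      ((HasRingHomProperty.Spec_iff (P := @Flat)).1 ‹Flat (Spec.map (CommRingCat.ofHom (algebraMap R0 B0)))›)
  · refine isGeometricallyReduced_fibers (fun w => ?_) p
    have hw : hW.fromSpec w ∈ U₁ := hWU (hW.range_fromSpec.le ⟨w, rfl⟩)
    rw [hb']
    exact RedFlat4.isGeomReducedAt_openImmersion_comp hW.fromSpec u₁ w hw.2
  · obtain ⟨w, hw⟩ : q x ∈ Set.range hW.fromSpec := hW.range_fromSpec.ge hxW
    obtain ⟨z₀, -, hz₂⟩ := Scheme.Pullback.exists_preimage_pullback (f := hW.fromSpec) (g := q) w x hw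
    refine ⟨sqj.isoPullback.inv z₀, ?_⟩
    rw [← Scheme.Hom.comp_apply, sqj.isoPullback_inv_snd, hz₂]

/-- **The modification is an isomorphism.** -/
theorem isIso_main {S X X' : Scheme.{u}} [IsIntegral S] [QuasiSeparatedSpace S]
    (hS : Pi1.IsNormalScheme S) (φ : X ⟶ S) [Flat φ] [LocallyOfFinitePresentation φ]
    [QuasiCompact φ] [QuasiSeparated φ]
    (hred : ∀ (K : Type u) [Field K] (k : Spec (CommRingCat.of K) ⟶ S), IsReduced (pullback φ k))
    (f : X' ⟶ X) [IsFinite f] (U : X.Opens)
    (hU' : IsSchemeTheoreticallyDominant (f ⁻¹ᵁ U).ι) (hfU : IsIso (f ∣_ U))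
    (hη : IsIso (pullback.snd f (pullback.fst φ (S.fromSpecStalk (genericPoint S))))) :
    IsIso f := by
  let g := S.fromSpecStalk (genericPoint S)
  haveI : IsAffine (Spec (S.presheaf.stalk (genericPoint S))) := inferInstance
  haveI : QuasiCompact g := inferInstance
  haveI : IsDominant g := ⟨dense_iff_closure_eq.2 (Set.eq_univ_of_univ_subset
    (by
      rw [← (genericPoint_spec S).def]
      refine closure_mono (Set.singleton_subset_iff.2 ⟨IsLocalRing.closedPoint _, ?_⟩)
      exact Scheme.fromSpecStalk_closedPoint))⟩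
  haveI : IsSchemeTheoreticallyDominant g := IsSchemeTheoreticallyDominant.of_isDominant g
  let h := pullback.fst (f ≫ φ) g
  haveI : IsSchemeTheoreticallyDominant h := by
    haveI := hU'; haveI := hfU
    let ι' := (f ⁻¹ᵁ U).ι
    haveI : Flat (ι' ≫ f ≫ φ) := by
      rw [show ι' ≫ f ≫ φ = (f ∣_ U) ≫ U.ι ≫ φ from by rw [← Category.assoc, ← morphismRestrict_ι, Category.assoc]]
      infer_instance
    let b := pullback.fst (ι' ≫ f ≫ φ) g
    let t := pullback.map (ι' ≫ f ≫ φ) g (f ≫ φ) g ι' (𝟙 _) (𝟙 _) (by simp) (by simp)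
    refine ⟨eq_bot_iff.2 ?_⟩
    have h1 : (b ≫ ι').ker = ⊥ := by
      rw [Scheme.Hom.ker_comp, Scheme.Hom.ker_eq_bot b, Scheme.IdealSheafData.map_bot, ι'.ker_eq_bot]
    rw [← h1, show b ≫ ι' = t ≫ h from (pullback.lift_fst _ _ _).symm]
    exact Scheme.Hom.le_ker_comp _ _
  have hcover : ∀ x : X, ∃ W : X.Opens, x ∈ W ∧ IsIso (f ∣_ W) := by
    intro x
    obtain ⟨V, hV, hxV, -⟩ := exists_isAffineOpen_mem_and_subset (X := S) (x := φ x) (U := ⊤) trivial
    haveI : Nonempty V := ⟨⟨_, hxV⟩⟩
    haveI : IsIntegrallyClosed Γ(S, V) := VarDim.isIntegrallyClosed_sections (fun q => (hS q).2) V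
    let φV := pullback.snd φ hV.fromSpec
    obtain ⟨w, hw⟩ : φ x ∈ Set.range hV.fromSpec := hV.range_fromSpec.ge hxV
    obtain ⟨xv, hxv, -⟩ := Scheme.Pullback.exists_preimage_pullback (f := φ) (g := hV.fromSpec) x w hw.symm
    haveI : Flat φV := MorphismProperty.pullback_snd _ _ ‹Flat φ›
    haveI : LocallyOfFinitePresentation φV := MorphismProperty.pullback_snd _ _ ‹LocallyOfFinitePresentation φ›
    have hredV : ∀ z, FBase.IsGeomReducedAt (φV.fiberToSpecResidueField (φV z)) (φV.asFiber z) := by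
      intro z L _ algL z' _
      let t : Spec (CommRingCat.of L) ⟶ S :=
        (Spec.map (CommRingCat.ofHom (@algebraMap _ L _ _ algL)) ≫
          (Spec Γ(S, V)).fromSpecResidueField (φV z)) ≫ hV.fromSpec
      haveI := hred L t
      let e : FBase.bc (φV.fiberToSpecResidueField (φV z)) L ≅ pullback φ t :=
        pullbackLeftPullbackSndIso φV ((Spec Γ(S, V)).fromSpecResidueField (φV z))
            (Spec.map (CommRingCat.ofHom (@algebraMap _ L _ _ algL))) ≪≫
          pullbackLeftPullbackSndIso φ hV.fromSpec _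
      haveI : IsReduced (FBase.bc (φV.fiberToSpecResidueField (φV z)) L) := isReduced_of_isOpenImmersion e.hom
      infer_instance
    obtain ⟨R0, B0, _, _, _, _, j₀, hN, hflB, hgr, hj₀, hxj, hjφ⟩ := exists_chart φV hredV xv
    haveI := hN; haveI := hflB; haveI := hj₀
    let A := CommRingCat.of (B0 ⊗[R0] Γ(S, V))
    let j : Spec A ⟶ X := j₀ ≫ pullback.fst φ hV.fromSpec
    haveI : IsOpenImmersion (pullback.fst φ hV.fromSpec) := inferInstance
    haveI hj : IsOpenImmersion j := inferInstanceAs (IsOpenImmersion (j₀ ≫ pullback.fst φ hV.fromSpec))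
    refine ⟨j.opensRange, ?_, ?_⟩
    · obtain ⟨z, hz⟩ := hxj
      exact ⟨z, by rw [Scheme.Hom.comp_apply, hz, hxv]⟩
    let K := S.presheaf.stalk (genericPoint S)
    have hηV : genericPoint S ∈ V := ((genericPoint_spec S).mem_open_set_iff V.isOpen).mpr ⟨_, trivial, hxV⟩
    let iK₀ := S.presheaf.germ V (genericPoint S) hηV
    letI : Algebra Γ(S, V) K := iK₀.hom.toAlgebra
    haveI : IsFractionRing Γ(S, V) K := functionField_isFractionRing_of_isAffineOpen S V hV
    letI : Field K := inferInstanceAs (Field S.functionField)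
    letI : Algebra R0 K := ((algebraMap Γ(S, V) K).comp (algebraMap R0 Γ(S, V))).toAlgebra
    haveI : IsScalarTower R0 Γ(S, V) K := IsScalarTower.of_algebraMap_eq fun _ => rfl
    let iK := Spec.map iK₀
    have hiK : iK ≫ hV.fromSpec = g := by
      rw [show g = hV.fromSpecStalk hηV from (hV.fromSpecStalk_eq_fromSpecStalk hηV).symm]
      rfl
    let pR := Spec.map (CommRingCat.ofHom (Algebra.TensorProduct.includeRight : Γ(S, V) →ₐ[R0] B0 ⊗[R0] Γ(S, V)).toRingHom)
    let pK := Spec.map (CommRingCat.ofHom (Algebra.TensorProduct.includeRight : K →ₐ[R0] B0 ⊗[R0] K).toRingHom)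
    let ιA := (Algebra.TensorProduct.map (AlgHom.id B0 B0) (IsScalarTower.toAlgHom R0 Γ(S, V) K)).toRingHom
    let iN : Spec (CommRingCat.of (B0 ⊗[R0] K)) ⟶ Spec A := Spec.map (CommRingCat.ofHom ιA)
    have hjS : j ≫ φ = pR ≫ hV.fromSpec := by
      rw [Category.assoc, pullback.condition, ← Category.assoc]
      exact congrArg (· ≫ hV.fromSpec) hjφ
    have hN0 : IsPullback iN pK pR iK := by
      refine IsPullback.of_right (h₁₂ := Spec.map (CommRingCat.ofHom
        (Algebra.TensorProduct.includeLeftRingHom : B0 →+* B0 ⊗[R0] Γ(S, V)))) ?_ ?_ (isPullback_tensor R0 B0 Γ(S, V))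
      · have hfst : iN ≫ Spec.map (CommRingCat.ofHom
            (Algebra.TensorProduct.includeLeftRingHom : B0 →+* B0 ⊗[R0] Γ(S, V))) =
            Spec.map (CommRingCat.ofHom (Algebra.TensorProduct.includeLeftRingHom : B0 →+* B0 ⊗[R0] K)) := by
          rw [← Spec.map_comp]
          refine congrArg Spec.map (CommRingCat.hom_ext (RingHom.ext fun x => ?_))
          show ιA (x ⊗ₜ 1) = x ⊗ₜ[R0] (1 : K)
          simp [ιA]
        have hsnd : iK ≫ Spec.map (CommRingCat.ofHom (algebraMap R0 Γ(S, V))) =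
            Spec.map (CommRingCat.ofHom (algebraMap R0 K)) := by
          rw [← Spec.map_comp]
          rfl
        rw [hfst, hsnd]
        exact isPullback_tensor R0 B0 K
      · rw [← Spec.map_comp, ← Spec.map_comp]
        refine congrArg Spec.map (CommRingCat.hom_ext (RingHom.ext fun x => ?_))
        show ιA ((1 : B0) ⊗ₜ x) = (1 : B0) ⊗ₜ[R0] algebraMap Γ(S, V) K x
        simp [ιA]
    have hV' : IsPullback iK (𝟙 _) hV.fromSpec g := by
      refine ⟨⟨by rw [hiK, Category.id_comp]⟩, ⟨PullbackCone.IsLimit.mk _ (fun s => s.snd) (fun s => ?_)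
        (fun s => Category.comp_id _) (fun s m _ h2 => by simpa using h2)⟩⟩
      rw [← cancel_mono hV.fromSpec, Category.assoc, hiK, ← s.condition]
    have hN1 : IsPullback iN pK (j ≫ φ) g := by
      rw [hjS]
      exact (congrArg (fun p => IsPullback iN p (pR ≫ hV.fromSpec) g) (Category.comp_id pK)).mp (hN0.paste_vert hV')
    -- the generic fibre of the chart
    let l : Spec (CommRingCat.of (B0 ⊗[R0] K)) ⟶ pullback φ g :=
      pullback.lift (iN ≫ j) pK (by rw [Category.assoc]; exact hN1.w)
    have hl : l ≫ pullback.fst φ g = iN ≫ j := pullback.lift_fst _ _ _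
    let P := pullback f j
    let sP : P ⟶ Spec A := pullback.snd f j
    haveI : IsFinite sP := MorphismProperty.pullback_snd _ _ ‹IsFinite f›
    haveI hsN : IsIso (pullback.snd sP iN) := by
      haveI := hη
      haveI : IsIso (pullback.snd (pullback.snd f (pullback.fst φ g)) l) := inferInstance
      haveI : IsIso (pullback.snd f (iN ≫ j)) := by
        rw [← hl, ← (Iso.inv_comp_eq _).2 (pullbackLeftPullbackSndIso_hom_snd f (pullback.fst φ g) l).symm]
        infer_instance
      rw [← pullbackLeftPullbackSndIso_hom_snd f j iN]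
      infer_instance
    let tN := pullback.fst sP iN
    haveI : QuasiCompact h := MorphismProperty.pullback_fst _ _ ‹QuasiCompact g›
    haveI : IsSchemeTheoreticallyDominant tN := by
      have big : IsPullback (tN) (pullback.snd sP iN ≫ pK) (pullback.fst f j ≫ f ≫ φ) g := by
        have := (IsPullback.of_hasPullback sP iN).paste_vert hN1
        rwa [show sP ≫ j ≫ φ = pullback.fst f j ≫ f ≫ φ from by
          exact ((reassoc_of% (pullback.condition (f := f) (g := j))) φ).symm] at this
      let l' := pullback.lift (f := f ≫ φ) (g := g) (tN ≫ pullback.fst f j) (pullback.snd sP iN ≫ pK)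
        (by rw [Category.assoc]; exact big.w)
      have H : IsPullback tN l' (pullback.fst f j) h :=
        IsPullback.of_bot (v₂₁ := pullback.snd (f ≫ φ) g) (h₃₁ := g)
          (by rw [show l' ≫ pullback.snd (f ≫ φ) g = pullback.snd sP iN ≫ pK from pullback.lift_snd _ _ _]; exact big)
          (pullback.lift_fst _ _ _).symm (IsPullback.of_hasPullback (f ≫ φ) g)
      exact IsSchemeTheoreticallyDominant.of_isPullback H.flip
    haveI : QuasiCompact tN := MorphismProperty.pullback_fst _ _ (inferInstance : QuasiCompact iN)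
    let t := inv (pullback.snd sP iN) ≫ tN
    have ht : t ≫ sP = iN := by
      rw [Category.assoc, pullback.condition, IsIso.inv_hom_id_assoc]
    haveI : IsAffine P := isAffine_of_isAffineHom sP
    let gA : A ⟶ Γ(P, ⊤) := (Scheme.ΓSpecIso A).inv ≫ sP.appTop
    let hA : Γ(P, ⊤) ⟶ CommRingCat.of (B0 ⊗[R0] K) := t.appTop ≫ (Scheme.ΓSpecIso _).hom
    have hcomp : gA ≫ hA = CommRingCat.ofHom ιA := by
      rw [Category.assoc, ← Category.assoc sP.appTop, ← Scheme.Hom.comp_appTop, ht]
      exact (Scheme.ΓSpecIso_inv_naturality_assoc _ _).symm.trans (by simp)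
    have hinj : Function.Injective hA.hom := by
      haveI : QuasiCompact t := inferInstance
      exact (Scheme.ΓSpecIso _).commRingCatIsoToRingEquiv.injective.comp (t.app_injective ⊤)
    have hfin : gA.hom.Finite := by
      have h1 := (HasAffineProperty.iff_of_isAffine (P := @IsFinite)).1 ‹IsFinite sP›
      exact (RingHom.finite_respectsIso.2 _ (Scheme.ΓSpecIso A).symm.commRingCatIsoToRingEquiv h1.2)
    have hbij := bijective_core (K := K) hgr gA.hom hfin hA.hom hinj (congrArg CommRingCat.Hom.hom hcomp)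
    haveI : IsIso gA := (ConcreteCategory.isIso_iff_bijective _).2 hbij
    haveI : IsIso sP.appTop := IsIso.of_isIso_comp_left (Scheme.ΓSpecIso A).inv sP.appTop
    haveI : IsIso sP := ((MorphismProperty.isomorphisms Scheme).arrow_mk_iso_iff (arrowIsoSpecΓOfIsAffine sP)).2
      (inferInstanceAs (IsIso (Spec.map sP.appTop)))
    exact ((MorphismProperty.isomorphisms Scheme).arrow_mk_iso_iff (morphismRestrictOpensRange f j)).2 ‹IsIso sP›
  choose W hW using hcover
  refine (IsZariskiLocalAtTarget.iff_of_iSup_eq_top (P := MorphismProperty.isomorphisms Scheme) W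
    (eq_top_iff.2 fun x _ => Opens.mem_iSup.2 ⟨x, (hW x).1⟩)).2 fun x => (hW x).2

end Groth.Agent.EtaMod4
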